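import Groth.Prelude.Def_Wider
import Mathlib.RingTheory.Finiteness.Ideal
import Mathlib.RingTheory.Ideal.Operations
import Mathlib.RingTheory.Noetherian.Basic

/-!
# Basic facts on `I`-power torsion
-/

universe u v

namespace Groth.Agent.Torsion

variable {R : Type u} [CommRing R] {M : Type v} [AddCommGroup M] [Module R M]

/-- Uniformity: if every element of a finitely generated ideal `J` times `m` is killed by a power
of `I`, then some `I ^ k * J` kills `m`. -/
theorem exists_pow_mul_smul_eq_zero (I J : Ideal R) (hJ : J.FG) (m : M)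
    (h : ∀ a ∈ J, ∃ k : ℕ, ∀ b ∈ I ^ k, b • a • m = 0) :
    ∃ k : ℕ, ∀ c ∈ I ^ k * J, c • m = 0 := by
  classical
  obtain ⟨s, rfl⟩ := hJ
  have hs : ∀ a ∈ s, ∃ k : ℕ, ∀ b ∈ I ^ k, b • a • m = 0 := fun a ha =>
    h a (Ideal.subset_span ha)
  choose k hk using hs
  refine ⟨s.attach.sup fun a => k a.1 a.2, fun c hc => ?_⟩
  refine Submodule.mul_induction_on hc (fun b hb a ha => ?_) (fun x y hx hy => ?_)
  · rw [mul_smul]
    induction ha using Submodule.span_induction with
    | mem a ha =>
      exact hk a ha b (Ideal.pow_le_pow_right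
        (Finset.le_sup (f := fun a : s => k a.1 a.2) (Finset.mem_attach _ ⟨a, ha⟩)) hb)
    | zero => simp
    | add x y _ _ hx hy => rw [add_smul, smul_add, hx, hy, add_zero]
    | smul r x _ hx => rw [smul_eq_mul, mul_smul, smul_comm, hx, smul_zero]
  · rw [add_smul, hx, hy, add_zero]

/-- A finitely generated ideal contained in the radical of the annihilator of `m` has a power
killing `m`. -/
theorem exists_pow_smul_eq_zero_of_le_radical (I : Ideal R) (hI : I.FG) (m : M)
    (h : I ≤ (Submodule.span R {m}).annihilator.radical) :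
    ∃ n : ℕ, ∀ a ∈ I ^ n, a • m = 0 := by
  obtain ⟨n, hn⟩ := Ideal.exists_pow_le_of_le_radical_of_fg h hI
  exact ⟨n, fun a ha => Submodule.mem_annihilator_span_singleton _ _ |>.mp (hn ha)⟩

/-- If there is no nonzero element killed by `I`, then none killed by `I ^ n`. -/
theorem eq_zero_of_pow_smul_eq_zero (I : Ideal R)
    (h : ∀ m : M, (∀ a ∈ I, a • m = 0) → m = 0) :
    ∀ (n : ℕ) (m : M), (∀ a ∈ I ^ n, a • m = 0) → m = 0 := by
  intro n
  induction n with
  | zero => intro m hm; simpa using hm 1 (by simp)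
  | succ n ih =>
    intro m hm
    refine ih m fun a ha => h _ fun b hb => ?_
    rw [← mul_smul, mul_comm]
    exact hm _ (by rw [pow_succ]; exact Ideal.mul_mem_mul ha hb)

end Groth.Agent.Torsion
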